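import Groth.Agent.S9432
import Groth.Agent.S0503
import Mathlib.AlgebraicGeometry.Pullbacks
import Mathlib.AlgebraicGeometry.PullbackCarrier
import Mathlib.FieldTheory.IsAlgClosed.Basic
import Mathlib.RingTheory.Ideal.GoingDown

/-!
# Integral closure in a product of algebraically closed fields

Let `B` be the integral closure of a ring `A` in a product of algebraically closed fields. Its local
rings are domains over which every monic polynomial splits, so a faithfully flat algebra of finite
presentation has sections Zariski locally on `B`.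
-/

set_option linter.style.haveILetI false
set_option linter.unusedSectionVars false
set_option backward.isDefEq.respectTransparency.types false

universe u

open Polynomial TensorProduct CategoryTheory Limits AlgebraicGeometry

namespace Groth.L20.IntCover

/-- Every monic polynomial of positive degree has a root. -/
def HasRoots (L : Type u) [CommRing L] : Prop :=
  ∀ f : L[X], f.Monic → 0 < f.natDegree → ∃ a, f.IsRoot a

section Roots

variable {L : Type u} [CommRing L]

theorem henselian_aux [IsLocalRing L] (hL : HasRoots L) : ∀ (n : ℕ) (f : L[X]), f.natDegree = n →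
    f.Monic → ∀ a₀, f.eval a₀ ∈ IsLocalRing.maximalIdeal L → IsUnit (f.derivative.eval a₀) →
    ∃ a, f.IsRoot a ∧ a - a₀ ∈ IsLocalRing.maximalIdeal L := by
  intro n
  induction n with
  | zero =>
    intro f hn hf a₀ h
    rw [hf.natDegree_eq_zero.mp hn, eval_one] at h
    exact absurd isUnit_one ((IsLocalRing.mem_maximalIdeal _).mp h)
  | succ n ih =>
    intro f hn hf a₀ h hd
    haveI : Nontrivial L := inferInstance
    obtain ⟨r, hr⟩ := hL f hf (by omega)
    obtain ⟨g, rfl⟩ := dvd_iff_isRoot.mpr hr
    have hg : g.Monic := (monic_X_sub_C r).of_mul_monic_left hf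
    have hgn : g.natDegree = n := by
      rw [(monic_X_sub_C r).natDegree_mul hg, natDegree_X_sub_C] at hn; omega
    by_cases hra : r - a₀ ∈ IsLocalRing.maximalIdeal L
    · exact ⟨r, hr, hra⟩
    have hu : ¬ (a₀ - r ∈ IsLocalRing.maximalIdeal L) := fun hh => hra (by
      rw [← neg_sub]; exact neg_mem hh)
    have hg0 : g.eval a₀ ∈ IsLocalRing.maximalIdeal L := by
      rw [eval_mul, eval_sub, eval_X, eval_C] at h
      exact ((IsLocalRing.maximalIdeal.isMaximal L).isPrime.mem_or_mem h).resolve_left hu
    have hgd : IsUnit (g.derivative.eval a₀) := by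
      rw [derivative_mul, derivative_sub, derivative_X, derivative_C, sub_zero, one_mul, eval_add,
        eval_mul, eval_sub, eval_X, eval_C] at hd
      by_contra hn'
      refine (IsLocalRing.mem_maximalIdeal _).mp (add_mem hg0 ?_) hd
      exact Ideal.mul_mem_left _ _ ((IsLocalRing.mem_maximalIdeal _).mpr hn')
    obtain ⟨a, ha, ha'⟩ := ih g hgn hg a₀ hg0 hgd
    exact ⟨a, by rw [IsRoot.def, eval_mul, ha.eq_zero, mul_zero], ha'⟩

theorem henselianLocalRing [IsLocalRing L] (hL : HasRoots L) : HenselianLocalRing L :=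
  { (inferInstance : IsLocalRing L) with
    is_henselian := fun f hf a₀ h hd => henselian_aux hL _ f rfl hf a₀ h hd }

/-- An integral domain extension of a ring with roots is trivial. -/
theorem surjective_algebraMap {D : Type u} [CommRing D] [IsDomain D] [Algebra L D]
    [Algebra.IsIntegral L D] (hL : HasRoots L) : Function.Surjective (algebraMap L D) := by
  have key : ∀ (n : ℕ) (f : L[X]), f.natDegree = n → f.Monic → ∀ x : D, aeval x f = 0 →
      x ∈ Set.range (algebraMap L D) := by
    intro n
    induction n with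
    | zero =>
      intro f hn hf x h
      rw [hf.natDegree_eq_zero.mp hn, map_one] at h
      exact absurd h one_ne_zero
    | succ n ih =>
      intro f hn hf x h
      haveI : Nontrivial L := (algebraMap L D).domain_nontrivial
      obtain ⟨r, hr⟩ := hL f hf (by omega)
      obtain ⟨g, rfl⟩ := dvd_iff_isRoot.mpr hr
      have hg : g.Monic := (monic_X_sub_C r).of_mul_monic_left hf
      have hgn : g.natDegree = n := by
        rw [(monic_X_sub_C r).natDegree_mul hg, natDegree_X_sub_C] at hn; omega
      rw [map_mul, mul_eq_zero] at h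
      rcases h with h | h
      · rw [map_sub, aeval_X, aeval_C, sub_eq_zero] at h
        exact ⟨r, h.symm⟩
      · exact ih g hgn hg x h
  intro x
  obtain ⟨f, hf, hfx⟩ := Algebra.IsIntegral.isIntegral (R := L) x
  exact key _ f rfl hf x hfx

theorem exists_algHom_of_finite [IsDomain L] [IsLocalRing L] (hL : HasRoots L) (C : Type u)
    [CommRing C] [Algebra L C] [Module.Finite L C] [Module.Flat L C]
    (hC : ∃ q : Ideal C, q.IsPrime ∧ q.LiesOver (IsLocalRing.maximalIdeal L)) :
    Nonempty (C →ₐ[L] L) := by
  obtain ⟨q, hq, hql⟩ := hC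
  obtain ⟨Q, -, hQ, hQl⟩ :=
    Ideal.exists_ideal_le_liesOver_of_le (p := (⊥ : Ideal L)) (q := IsLocalRing.maximalIdeal L) q
      bot_le
  have hinj : Function.Injective (algebraMap L (C ⧸ Q)) := by
    rw [RingHom.injective_iff_ker_eq_bot, IsScalarTower.algebraMap_eq L C (C ⧸ Q),
      ← RingHom.comap_ker, Ideal.Quotient.algebraMap_eq, Ideal.mk_ker]
    exact (Ideal.LiesOver.over (P := Q) (p := (⊥ : Ideal L))).symm
  let e : L ≃ₐ[L] C ⧸ Q := AlgEquiv.ofBijective (Algebra.ofId L (C ⧸ Q))
    ⟨hinj, surjective_algebraMap hL⟩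
  exact ⟨e.symm.toAlgHom.comp (Ideal.Quotient.mkₐ L Q)⟩

end Roots

section Closure

variable {A : Type u} [CommRing A] {ι : Type u} {K : ι → Type u} [∀ i, Field (K i)]
  [∀ i, IsAlgClosed (K i)] [Algebra A (Π i, K i)]

theorem hasRoots_closure : HasRoots (integralClosure A (Π i, K i)) := by
  intro f hf hd
  have hr : ∀ i, ∃ a : K i, (f.map ((Pi.evalRingHom K i).comp
      (integralClosure A (Π i, K i)).val.toRingHom)).IsRoot a := fun i =>
    IsAlgClosed.exists_root _ (by
      rw [hf.degree_map]
      exact ne_of_gt (natDegree_pos_iff_degree_pos.mp hd))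
  choose a ha using hr
  have hroot : f.eval₂ (integralClosure A (Π i, K i)).val.toRingHom (a : Π i, K i) = 0 := by
    funext i
    show Pi.evalRingHom K i (f.eval₂ _ a) = 0
    rw [hom_eval₂, ← eval_map]
    exact ha i
  have hint : IsIntegral A (a : Π i, K i) :=
    isIntegral_trans (A := integralClosure A (Π i, K i)) a ⟨f, hf, hroot⟩
  refine ⟨⟨a, hint⟩, Subtype.val_injective ?_⟩
  show (integralClosure A (Π i, K i)).val.toRingHom (f.eval ⟨a, hint⟩) = 0
  rw [← eval₂_at_apply]
  exact hroot

theorem hasRoots_localization {B : Type u} [CommRing B] (hB : HasRoots B) (M : Submonoid B)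
    {L : Type u} [CommRing L] [Algebra B L] [IsLocalization M L] : HasRoots L := by
  intro f hf hd
  obtain ⟨s, hs⟩ := IsLocalization.exist_integer_multiples M (Finset.range f.natDegree) f.coeff
  choose c hc using hs
  let n := f.natDegree
  let F : B[X] := X ^ n + ∑ k : Fin n, C ((s : B) ^ (n - k.1 - 1) * c k.1 (Finset.mem_range.mpr k.2)) * X ^ k.1
  rcases subsingleton_or_nontrivial B with hsB | hnB
  · haveI : Subsingleton L := (IsLocalization.subsingleton_iff (S := L) (M := M)).mpr (Subsingleton.elim (1 : B) 0 ▸ M.one_mem)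
    exact ⟨0, Subsingleton.elim _ _⟩
  have hFm : F.Monic := monic_X_pow_add (lt_of_lt_of_le (degree_sum_fin_lt _) le_rfl)
  have hFd : F.natDegree = n := by
    refine natDegree_eq_of_degree_eq_some ?_
    rw [degree_add_eq_left_of_degree_lt (by rw [degree_X_pow]; exact degree_sum_fin_lt _),
      degree_X_pow]
  obtain ⟨r, hr⟩ := hB F hFm (hFd.symm ▸ hd)
  obtain ⟨u, hu⟩ := (IsLocalization.map_units L s).exists_left_inv
  refine ⟨u * algebraMap B L r, ?_⟩
  have h0 := congrArg (algebraMap B L) hr
  simp only [F, IsRoot.def, eval_add, eval_pow, eval_X, eval_finsetSum, eval_mul, eval_C, map_add,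
    map_pow, map_sum, map_mul, map_zero] at h0
  rw [IsRoot.def, hf.as_sum, eval_add, eval_pow, eval_X, eval_finsetSum,
    ← Fin.sum_univ_eq_sum_range (fun k => eval (u * algebraMap B L r) (C (f.coeff k) * X ^ k)) n]
  have hterm : ∀ k : Fin n, algebraMap B L (s : B) ^ (n - k.1 - 1) *
      algebraMap B L (c k.1 (Finset.mem_range.mpr k.2)) * algebraMap B L r ^ k.1 =
      algebraMap B L (s : B) ^ n * (f.coeff k.1 * (u * algebraMap B L r) ^ k.1) := by
    intro k
    rw [hc k.1 (Finset.mem_range.mpr k.2), Algebra.smul_def, mul_pow]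
    have h1 : algebraMap B L (s : B) ^ n =
        algebraMap B L (s : B) ^ (n - k.1 - 1) * algebraMap B L (s : B) * algebraMap B L (s : B) ^ k.1 := by
      rw [← pow_succ, ← pow_add]; congr 1; omega
    have h2 : algebraMap B L (s : B) ^ k.1 * u ^ k.1 = 1 := by
      rw [← mul_pow, mul_comm _ u, hu, one_pow]
    rw [h1]
    linear_combination (-(algebraMap B L (s : B) ^ (n - k.1 - 1) * algebraMap B L (s : B) *
      f.coeff k.1 * algebraMap B L r ^ k.1)) * h2
  have hlead : algebraMap B L r ^ n = algebraMap B L (s : B) ^ n * (u * algebraMap B L r) ^ n := by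
    rw [mul_pow, ← mul_assoc, ← mul_pow, mul_comm _ u, hu, one_pow, one_mul]
  simp_rw [hterm, ← Finset.mul_sum] at h0
  rw [hlead, ← mul_add] at h0
  refine ((IsLocalization.map_units L s).pow n).mul_right_eq_zero.mp ?_
  simpa using h0

theorem isDomain_localization (t : Ideal (integralClosure A (Π i, K i))) [t.IsPrime] :
    IsDomain (Localization.AtPrime t) := by
  haveI : NoZeroDivisors (Localization.AtPrime t) := by
    refine ⟨fun {x y} hxy => ?_⟩
    obtain ⟨⟨a, s⟩, hx⟩ := IsLocalization.surj t.primeCompl x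
    obtain ⟨⟨b, s'⟩, hy⟩ := IsLocalization.surj t.primeCompl y
    simp only at hx hy
    have h0 : algebraMap _ (Localization.AtPrime t) (a * b) = 0 := by
      rw [map_mul, ← hx, ← hy, mul_mul_mul_comm, hxy, zero_mul]
    obtain ⟨w, hw⟩ := (IsLocalization.map_eq_zero_iff t.primeCompl _ _).mp h0
    classical
    let e : Π i, K i := fun i => if (w.1.1 * a.1) i = 0 then 0 else 1
    have he : IsIntegral A e := ⟨X * (X - C 1), monic_X.mul (monic_X_sub_C 1), by
      rw [eval₂_mul, eval₂_X, eval₂_sub, eval₂_X, eval₂_C, map_one]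
      funext i
      show e i * (e i - 1) = 0
      by_cases h : (w.1.1 * a.1) i = 0
      · simp only [e, if_pos h, zero_mul]
      · simp only [e, if_neg h, sub_self, mul_zero]⟩
    let E : integralClosure A (Π i, K i) := ⟨e, he⟩
    have h1 : E * (w.1 * a) = w.1 * a := Subtype.ext (funext fun i => by
      show e i * ((w.1.1 * a.1) i) = (w.1.1 * a.1) i
      by_cases h : (w.1.1 * a.1) i = 0
      · rw [h, mul_zero]
      · simp only [e, if_neg h, one_mul])
    have h2 : E * b = 0 := Subtype.ext (funext fun i => by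
      show e i * b.1 i = 0
      have := congrFun (congrArg Subtype.val hw) i
      by_cases h : (w.1.1 * a.1) i = 0
      · simp only [e, if_pos h, zero_mul]
      · simp only [e, if_neg h, one_mul]
        have h' : (w.1.1 * a.1) i * b.1 i = 0 := by
          show w.1.1 i * a.1 i * b.1 i = 0
          rw [mul_assoc]; exact this
        exact (mul_eq_zero.mp h').resolve_left h)
    have hu : IsUnit (algebraMap _ (Localization.AtPrime t) s.1) ∧
        IsUnit (algebraMap _ (Localization.AtPrime t) s'.1) :=
      ⟨IsLocalization.map_units _ s, IsLocalization.map_units _ s'⟩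
    by_cases hE : E ∈ t
    · left
      have hone : (1 : integralClosure A (Π i, K i)) - E ∈ t.primeCompl := fun hh =>
        (inferInstance : t.IsPrime).ne_top ((Ideal.eq_top_iff_one _).mpr (by
          simpa using add_mem hh hE))
      have ha : algebraMap _ (Localization.AtPrime t) a = 0 :=
        (IsLocalization.map_eq_zero_iff t.primeCompl _ _).mpr ⟨⟨_, mul_mem hone w.2⟩, by
          show (1 - E) * w.1 * a = 0
          rw [mul_assoc, sub_mul, one_mul, h1, sub_self]⟩
      rw [ha] at hx
      exact (hu.1.mul_left_eq_zero).mp hx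
    · right
      have hb : algebraMap _ (Localization.AtPrime t) b = 0 :=
        (IsLocalization.map_eq_zero_iff t.primeCompl _ _).mpr ⟨⟨E, hE⟩, h2⟩
      rw [hb] at hy
      exact (hu.2.mul_left_eq_zero).mp hy
  exact NoZeroDivisors.to_isDomain (Localization.AtPrime t)

theorem faithfullyFlat_baseChange {A R L : Type u} [CommRing A] [CommRing R] [CommRing L]
    [Algebra A R] [Algebra A L] [IsLocalRing L] [Module.Flat A R] (P : PrimeSpectrum R)
    (hP : PrimeSpectrum.comap (algebraMap A R) P =
      PrimeSpectrum.comap (algebraMap A L) (IsLocalRing.closedPoint L)) :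
    Module.FaithfullyFlat L (L ⊗[A] R) := by
  obtain ⟨z, hz1, hz2⟩ := Scheme.Pullback.exists_preimage_pullback
    (f := Spec.map (CommRingCat.ofHom (algebraMap A L)))
    (g := Spec.map (CommRingCat.ofHom (algebraMap A R))) (IsLocalRing.closedPoint L) P hP.symm
  let Q := (pullbackSpecIso A L R).hom z
  have hQ : PrimeSpectrum.comap (algebraMap L (L ⊗[A] R)) Q = IsLocalRing.closedPoint L := by
    rw [← hz1]
    show ((pullbackSpecIso A L R).hom ≫ Spec.map (CommRingCat.ofHom (algebraMap L (L ⊗[A] R)))) z = _
    rw [pullbackSpecIso_hom_fst]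
  refine { submodule_ne_top := fun m hm h => ?_ }
  have hm' : m = IsLocalRing.maximalIdeal L := IsLocalRing.eq_maximalIdeal hm
  rw [hm', Ideal.smul_top_eq_map, Submodule.restrictScalars_eq_top_iff] at h
  refine Q.2.ne_top (top_le_iff.mp (h.symm.le.trans (Ideal.map_le_iff_le_comap.mpr ?_)))
  exact (congrArg PrimeSpectrum.asIdeal hQ).ge

theorem exists_algHom_local {A R L : Type u} [CommRing A] [CommRing R] [CommRing L] [IsDomain L]
    [Algebra A R] [Algebra A L] [IsLocalRing L] [Module.Flat A R] [Algebra.FinitePresentation A R]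
    (hL : HasRoots L) (P : PrimeSpectrum R)
    (hP : PrimeSpectrum.comap (algebraMap A R) P =
      PrimeSpectrum.comap (algebraMap A L) (IsLocalRing.closedPoint L)) :
    Nonempty (R →ₐ[A] L) := by
  haveI := faithfullyFlat_baseChange P hP
  haveI := henselianLocalRing hL
  obtain ⟨S, _, _, hqf, hft, hff, hfp, ⟨ψ⟩⟩ := Groth.Agent.S9432.result L (L ⊗[A] R)
  obtain ⟨e, he, hfin, htop⟩ := Groth.Agent.S0503.result L S
  let J : Ideal S := Ideal.span {1 - e}
  haveI : Module.Flat L (S ⧸ J) := Module.Flat.of_retract
    ({ toFun := fun c => Submodule.liftQ (J.restrictScalars L) (LinearMap.mulLeft L e) (fun x hx => by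
          obtain ⟨y, rfl⟩ := Ideal.mem_span_singleton'.mp hx
          show e * (y * (1 - e)) = 0
          rw [mul_left_comm, mul_sub, mul_one, he.eq, sub_self, mul_zero]) c
       map_add' := fun _ _ => map_add _ _ _
       map_smul' := fun _ _ => map_smul _ _ _ } : (S ⧸ J) →ₗ[L] S)
    (Ideal.Quotient.mkₐ L J).toLinearMap (LinearMap.ext fun c => by
      obtain ⟨x, rfl⟩ := Ideal.Quotient.mk_surjective c
      show Ideal.Quotient.mk J (e * x) = Ideal.Quotient.mk J x
      rw [Ideal.Quotient.eq]
      exact Ideal.mem_span_singleton'.mpr ⟨-x, by ring⟩)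
  obtain ⟨Q, hQ⟩ := (PrimeSpectrum.comap_surjective_of_faithfullyFlat (A := L) (B := S))
    (IsLocalRing.closedPoint L)
  have heQ : e ∉ Q.asIdeal := fun heQ => by
    have hle : Ideal.span {e} ≤ Q.asIdeal := (Ideal.span_singleton_le_iff_mem _).mpr heQ
    have h1 : (1 : S) ∈ Q.asIdeal := by
      have hmap : (IsLocalRing.maximalIdeal L).map (algebraMap L (S ⧸ Ideal.span {e})) ≤
          Q.asIdeal.map (Ideal.Quotient.mk (Ideal.span {e})) := by
        rw [IsScalarTower.algebraMap_eq L S (S ⧸ Ideal.span {e}), ← Ideal.map_map]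
        refine Ideal.map_mono (Ideal.map_le_iff_le_comap.mpr ?_)
        exact (congrArg PrimeSpectrum.asIdeal hQ).ge
      have h2 : (1 : S ⧸ Ideal.span {e}) ∈ Q.asIdeal.map (Ideal.Quotient.mk (Ideal.span {e})) :=
        hmap (htop ▸ Submodule.mem_top)
      rw [← map_one (Ideal.Quotient.mk (Ideal.span {e})), Ideal.mem_map_iff_of_surjective _
        Ideal.Quotient.mk_surjective] at h2
      obtain ⟨x, hx, hx'⟩ := h2
      have := Ideal.Quotient.eq.mp hx'
      exact (sub_sub_cancel x 1) ▸ sub_mem hx (hle this)
    exact Q.2.ne_top ((Ideal.eq_top_iff_one _).mpr h1)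
  have hJQ : J ≤ Q.asIdeal := (Ideal.span_singleton_le_iff_mem _).mpr
    ((Q.2.mem_or_mem (show e * (1 - e) ∈ Q.asIdeal by
      rw [mul_sub, mul_one, he.eq, sub_self]; exact zero_mem _)).resolve_left heQ)
  haveI : Module.Finite L (S ⧸ J) := hfin
  obtain ⟨σ⟩ := exists_algHom_of_finite hL (S ⧸ J) ⟨Q.asIdeal.map (Ideal.Quotient.mk J),
    Ideal.map_isPrime_of_surjective Ideal.Quotient.mk_surjective (by rwa [Ideal.mk_ker]),
    ⟨by
      rw [Ideal.under_def, IsScalarTower.algebraMap_eq L S (S ⧸ J), ← Ideal.comap_comap,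
        Ideal.Quotient.algebraMap_eq, Ideal.comap_map_of_surjective _ Ideal.Quotient.mk_surjective,
        ← RingHom.ker_eq_comap_bot, Ideal.mk_ker, sup_eq_left.mpr hJQ]
      exact (congrArg PrimeSpectrum.asIdeal hQ).symm⟩⟩
  exact ⟨(((σ.comp (Ideal.Quotient.mkₐ L J)).comp ψ).restrictScalars A).comp
    Algebra.TensorProduct.includeRight⟩

theorem exists_away_of_algHom {A B R : Type u} [CommRing A] [CommRing B] [CommRing R] [Algebra A B]
    [Algebra A R] [Algebra.FinitePresentation A R] (t : PrimeSpectrum B)
    (φ : R →ₐ[A] Localization.AtPrime t.asIdeal) :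
    ∃ f, f ∉ t.asIdeal ∧ Nonempty (R →ₐ[A] Localization.Away f) := by
  obtain ⟨n, q, hq, hker⟩ := (inferInstance : Algebra.FinitePresentation A R).out
  obtain ⟨s, hs⟩ := hker
  let L := Localization.AtPrime t.asIdeal
  obtain ⟨m, hm⟩ := IsLocalization.exist_integer_multiples t.asIdeal.primeCompl Finset.univ
    (fun k => φ (q (MvPolynomial.X k)))
  choose c hc using fun k => hm k (Finset.mem_univ k)
  let Bm := Localization.Away (m : B)
  let π : Bm →+* L := IsLocalization.Away.lift (m : B) (g := algebraMap B L)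
    (IsLocalization.map_units L m)
  let π' : Bm →ₐ[A] L :=
    { π with
      commutes' := fun r => by
        show π (algebraMap A Bm r) = _
        rw [IsScalarTower.algebraMap_apply A B Bm, IsLocalization.Away.lift_eq,
          ← IsScalarTower.algebraMap_apply] }
  let G : MvPolynomial (Fin n) A →ₐ[A] Bm := MvPolynomial.aeval fun k =>
    algebraMap B Bm (c k) * IsLocalization.Away.invSelf (m : B)
  have hG : π'.comp G = φ.comp q := by
    refine MvPolynomial.algHom_ext fun k => ?_
    show π (G (MvPolynomial.X k)) = φ (q (MvPolynomial.X k))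
    simp only [G, MvPolynomial.aeval_X, map_mul, π, IsLocalization.Away.lift_eq]
    rw [hc k, Algebra.smul_def, mul_right_comm]
    have h1 : algebraMap B L (m : B) * π (IsLocalization.Away.invSelf (m : B)) = 1 := by
      rw [← IsLocalization.Away.lift_eq (S := Bm) (m : B) (g := algebraMap B L)
        (IsLocalization.map_units L m) (m : B), ← map_mul, IsLocalization.Away.mul_invSelf, map_one]
    rw [show algebraMap B L (m : B) * _ = 1 from h1, one_mul]
  have hkill : ∀ g ∈ s, ∃ w, w ∉ t.asIdeal ∧ algebraMap B Bm w * G g = 0 := fun g hg => by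
    obtain ⟨N, b, hb⟩ := IsLocalization.Away.surj (m : B) (G g)
    have h0 : π (G g) = 0 := by
      show (π'.comp G) g = 0
      rw [hG, AlgHom.comp_apply, show q g = 0 from by
        rw [← RingHom.mem_ker]; exact hs ▸ Ideal.subset_span hg, map_zero]
    have h1 : algebraMap B L b = 0 := by
      rw [← IsLocalization.Away.lift_eq (S := Bm) (m : B) (g := algebraMap B L)
        (IsLocalization.map_units L m) b, ← hb]
      show π (_ * _) = 0
      rw [map_mul, h0, zero_mul]
    obtain ⟨w, hw⟩ := (IsLocalization.map_eq_zero_iff t.asIdeal.primeCompl L b).mp h1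
    refine ⟨w.1, w.2, ((IsLocalization.Away.algebraMap_pow_isUnit (S := Bm) (m : B) N)).mul_left_eq_zero.mp ?_⟩
    rw [mul_assoc, ← map_pow (algebraMap B Bm), map_pow, hb, ← map_mul, hw, map_zero]
  choose w hw hw0 using hkill
  let W : B := ∏ g ∈ s.attach, w g.1 g.2
  have hW : (m : B) * W ∉ t.asIdeal := t.asIdeal.primeCompl.mul_mem m.2
    (t.asIdeal.primeCompl.prod_mem fun g _ => hw g.1 g.2)
  let Bf := Localization.Away ((m : B) * W)
  let ν : Bm →+* Bf := IsLocalization.Away.awayToAwayRight (S := Bm) (P := Bf) (m : B) W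
  let ν' : Bm →ₐ[A] Bf :=
    { ν with
      commutes' := fun r => by
        show ν (algebraMap A Bm r) = _
        rw [IsScalarTower.algebraMap_apply A B Bm, IsLocalization.Away.awayToAwayRight_eq,
          ← IsScalarTower.algebraMap_apply] }
  have hle : RingHom.ker q ≤ RingHom.ker (ν'.comp G) := by
    change RingHom.ker q.toRingHom ≤ RingHom.ker (ν'.comp G).toRingHom
    rw [← hs]
    refine Ideal.span_le.mpr fun g hg => ?_
    show ν (G g) = 0
    have h1 := congrArg ν (hw0 g hg)
    rw [map_mul, map_zero, IsLocalization.Away.awayToAwayRight_eq] at h1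
    refine IsUnit.mul_right_eq_zero ?_ |>.mp h1
    refine isUnit_of_dvd_unit ?_ (IsLocalization.Away.algebraMap_isUnit (S := Bf) ((m : B) * W))
    rw [map_mul]
    exact dvd_mul_of_dvd_right (map_dvd _ (Finset.dvd_prod_of_mem (fun g : {g // g ∈ s} => w g.1 g.2)
      (Finset.mem_attach s ⟨g, hg⟩))) _
  exact ⟨(m : B) * W, hW, ⟨AlgHom.liftOfSurjective q hq (ν'.comp G) hle⟩⟩

/-- Sections exist Zariski locally. -/
theorem exists_away {R : Type u} [CommRing R] [Algebra A R] [Module.Flat A R]
    [Algebra.FinitePresentation A R] (t : PrimeSpectrum (integralClosure A (Π i, K i)))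
    (P : PrimeSpectrum R)
    (hP : PrimeSpectrum.comap (algebraMap A R) P =
      PrimeSpectrum.comap (algebraMap A (integralClosure A (Π i, K i))) t) :
    ∃ f, f ∉ t.asIdeal ∧ Nonempty (R →ₐ[A] Localization.Away f) := by
  haveI := isDomain_localization t.asIdeal
  obtain ⟨φ⟩ := exists_algHom_local (A := A) (R := R) (L := Localization.AtPrime t.asIdeal)
    (hasRoots_localization hasRoots_closure t.asIdeal.primeCompl) P (by
      rw [hP]
      refine PrimeSpectrum.ext ?_
      show t.asIdeal.comap _ = (IsLocalRing.maximalIdeal _).comap _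
      rw [IsScalarTower.algebraMap_eq A (integralClosure A (Π i, K i))
        (Localization.AtPrime t.asIdeal), ← Ideal.comap_comap,
        show (IsLocalRing.maximalIdeal (Localization.AtPrime t.asIdeal)).comap _ = t.asIdeal from
          IsLocalization.AtPrime.under_maximalIdeal (Localization.AtPrime t.asIdeal) t.asIdeal])
  exact exists_away_of_algHom t φ

end Closure

end Groth.L20.IntCover
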