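import Groth.Agent.L20.IntCover.Scheme
import Groth.Agent.L09.Subtr
import Mathlib.AlgebraicGeometry.Morphisms.QuasiFinite

/-!
# Sections of quasi-finite S-subtrusive morphisms over the integral cover

A quasi-finite algebra over a local domain with roots that has a prime over the generic point
contained in a prime over the closed point has a section.
-/

set_option linter.style.haveILetI false
set_option backward.isDefEq.respectTransparency.types false

universe u

open AlgebraicGeometry CategoryTheory Limits TensorProduct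

noncomputable section

namespace Groth.L20.IntCover

variable {L : Type u} [CommRing L]

theorem exists_algHom_of_finite_pair [IsDomain L] [IsLocalRing L] (hL : HasRoots L) (C : Type u)
    [CommRing C] [Algebra L C] [Module.Finite L C] (Q : Ideal C) [Q.IsPrime]
    (hQ : Q.comap (algebraMap L C) = ⊥) : Nonempty (C →ₐ[L] L) := by
  have hinj : Function.Injective (algebraMap L (C ⧸ Q)) := by
    rw [RingHom.injective_iff_ker_eq_bot, IsScalarTower.algebraMap_eq L C (C ⧸ Q),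
      ← RingHom.comap_ker, Ideal.Quotient.algebraMap_eq, Ideal.mk_ker]
    exact hQ
  let e : L ≃ₐ[L] C ⧸ Q := AlgEquiv.ofBijective (Algebra.ofId L (C ⧸ Q))
    ⟨hinj, surjective_algebraMap hL⟩
  exact ⟨e.symm.toAlgHom.comp (Ideal.Quotient.mkₐ L Q)⟩

theorem exists_algHom_qf [IsDomain L] [IsLocalRing L] (hL : HasRoots L) (S : Type u) [CommRing S]
    [Algebra L S] [Algebra.FiniteType L S] [Algebra.QuasiFinite L S] (Q₀ Q₁ : PrimeSpectrum S)
    (hle : Q₀.asIdeal ≤ Q₁.asIdeal) (h₀ : Q₀.asIdeal.comap (algebraMap L S) = ⊥)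
    (h₁ : IsLocalRing.maximalIdeal L ≤ Q₁.asIdeal.comap (algebraMap L S)) :
    Nonempty (S →ₐ[L] L) := by
  haveI := henselianLocalRing hL
  obtain ⟨e, he, hfin, htop⟩ := Groth.Agent.S0503.result L S
  let J : Ideal S := Ideal.span {1 - e}
  have heQ : e ∉ Q₁.asIdeal := fun heQ => by
    refine Q₁.2.ne_top (top_le_iff.mp ?_)
    have h2 : ⊤ ≤ (Q₁.asIdeal.map (Ideal.Quotient.mk (Ideal.span {e}))) := by
      rw [← htop, IsScalarTower.algebraMap_eq L S (S ⧸ Ideal.span {e}), ← Ideal.map_map]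
      exact Ideal.map_mono (Ideal.map_le_iff_le_comap.mpr h₁)
    calc ⊤ = Ideal.comap (Ideal.Quotient.mk (Ideal.span {e})) ⊤ := rfl
      _ ≤ (Q₁.asIdeal.map (Ideal.Quotient.mk (Ideal.span {e}))).comap _ := Ideal.comap_mono h2
      _ = Q₁.asIdeal := by
        rw [Ideal.comap_map_of_surjective _ Ideal.Quotient.mk_surjective, ← RingHom.ker_eq_comap_bot,
          Ideal.mk_ker, sup_eq_left]
        exact (Ideal.span_singleton_le_iff_mem _).mpr heQ
  have hJQ : J ≤ Q₀.asIdeal := (Ideal.span_singleton_le_iff_mem _).mpr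
    ((Q₀.2.mem_or_mem (show e * (1 - e) ∈ Q₀.asIdeal by
      rw [mul_sub, mul_one, he.eq, sub_self]; exact zero_mem _)).resolve_left fun h => heQ (hle h))
  haveI : Module.Finite L (S ⧸ J) := hfin
  haveI : (Q₀.asIdeal.map (Ideal.Quotient.mk J)).IsPrime :=
    Ideal.map_isPrime_of_surjective Ideal.Quotient.mk_surjective (by rwa [Ideal.mk_ker])
  obtain ⟨σ⟩ := exists_algHom_of_finite_pair hL (S ⧸ J) (Q₀.asIdeal.map (Ideal.Quotient.mk J)) (by
    rw [IsScalarTower.algebraMap_eq L S (S ⧸ J), ← Ideal.comap_comap, Ideal.Quotient.algebraMap_eq,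
      Ideal.comap_map_of_surjective _ Ideal.Quotient.mk_surjective, ← RingHom.ker_eq_comap_bot,
      Ideal.mk_ker, sup_eq_left.mpr hJQ]
    exact h₀)
  exact ⟨σ.comp (Ideal.Quotient.mkₐ L J)⟩

/-- A prime over the generic point inside a prime over the closed point. -/
theorem exists_prime_pair {S X : Scheme.{u}} (f : X ⟶ S) (hf : Subtr.UnivSSubtrusive f)
    {U : S.Opens} (hU : IsAffineOpen U) (L : Type u) [CommRing L] [IsDomain L] [IsLocalRing L]
    [Algebra Γ(S, U) L] :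
    ∃ (U' : X.Opens) (hU' : IsAffineOpen U') (e : U' ≤ f ⁻¹ᵁ U),
      letI : Algebra Γ(S, U) Γ(X, U') := (f.appLE U U' e).hom.toAlgebra
      ∃ Q₀ Q₁ : PrimeSpectrum (L ⊗[Γ(S, U)] Γ(X, U')), Q₀.asIdeal ≤ Q₁.asIdeal ∧
        Q₀.asIdeal.comap (algebraMap L (L ⊗[Γ(S, U)] Γ(X, U'))) = ⊥ ∧
        IsLocalRing.maximalIdeal L ≤
          Q₁.asIdeal.comap (algebraMap L (L ⊗[Γ(S, U)] Γ(X, U'))) := by
  let g₀ : Spec (.of L) ⟶ S :=
    Spec.map (CommRingCat.ofHom (algebraMap Γ(S, U) L)) ≫ hU.fromSpec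
  let η : Spec (.of L) := (⟨⊥, Ideal.isPrime_bot⟩ : PrimeSpectrum L)
  let σ : Spec (.of L) := IsLocalRing.closedPoint L
  obtain ⟨x, x', hxx, hx, hx'⟩ := Groth.L09.Subtr.univ_snd hf g₀
    (show η ⤳ σ from (PrimeSpectrum.le_iff_specializes _ _).mp bot_le)
  have hsU : pullback.fst f g₀ x ∈ f ⁻¹ᵁ U := by
    show f (pullback.fst f g₀ x) ∈ U
    rw [← Scheme.Hom.comp_apply, pullback.condition, Scheme.Hom.comp_apply, hx]
    exact (Set.ext_iff.mp hU.range_fromSpec _).mp (Set.mem_range_self _)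
  obtain ⟨_, ⟨U', hU', rfl⟩, hsU', hle⟩ :=
    X.isBasis_affineOpens.exists_subset_of_mem_open hsU (f ⁻¹ᵁ U).2
  have e : U' ≤ f ⁻¹ᵁ U := hle
  have hsU'' : pullback.fst f g₀ x' ∈ U' :=
    (hxx.map (pullback.fst f g₀).continuous).mem_open U'.2 hsU'
  refine ⟨U', hU', e, ?_⟩
  letI : Algebra Γ(S, U) Γ(X, U') := (f.appLE U U' e).hom.toAlgebra
  let m := pullback.map (Spec.map (CommRingCat.ofHom (algebraMap Γ(S, U) Γ(X, U'))))
      (Spec.map (CommRingCat.ofHom (algebraMap Γ(S, U) L))) f g₀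
      hU'.fromSpec (𝟙 _) hU.fromSpec (IsAffineOpen.SpecMap_appLE_fromSpec f hU hU' e)
      (Category.id_comp _).symm
  let i := (pullbackSpecIso Γ(S, U) L Γ(X, U')).inv ≫ (pullbackSymmetry _ _).hom
  let M := i ≫ m
  have hM : M ≫ pullback.snd f g₀ =
      Spec.map (CommRingCat.ofHom (algebraMap L (L ⊗[Γ(S, U)] Γ(X, U')))) := by
    simp only [M, i, m, Category.assoc]
    rw [pullback.map, pullback.lift_snd, Category.comp_id, pullbackSymmetry_hom_comp_snd,
      pullbackSpecIso_inv_fst]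
  have hr : ∀ z, pullback.fst f g₀ z ∈ U' → ∃ w, M w = z := fun z hz => by
    obtain ⟨w', hw'⟩ : z ∈ Set.range m := by
      rw [Scheme.Pullback.range_map]
      exact ⟨(Set.ext_iff.mp hU'.range_fromSpec _).mpr hz, ⟨_, rfl⟩⟩
    obtain ⟨w'', hw''⟩ := i.surjective w'
    exact ⟨w'', by rw [Scheme.Hom.comp_apply, hw'', hw']⟩
  obtain ⟨w, hw⟩ := hr x hsU'
  obtain ⟨w', hw'⟩ := hr x' hsU''
  have hle' : PrimeSpectrum.asIdeal w' ≤ PrimeSpectrum.asIdeal w :=
    (PrimeSpectrum.le_iff_specializes w' w).mpr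
      (M.isOpenEmbedding.isInducing.specializes_iff.mp (by rw [hw, hw']; exact hxx))
  refine ⟨w', w, hle', ?_, ?_⟩
  · have : (M ≫ pullback.snd f g₀) w' = η := by rw [Scheme.Hom.comp_apply, hw', hx']
    rw [hM] at this
    exact congrArg PrimeSpectrum.asIdeal this
  · have : (M ≫ pullback.snd f g₀) w = σ := by rw [Scheme.Hom.comp_apply, hw, hx]
    rw [hM] at this
    exact (congrArg PrimeSpectrum.asIdeal this).ge

theorem exists_algHom_baseChange_qf {A R : Type u} [CommRing A] [CommRing R] [Algebra A R]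
    [Algebra A L] [Algebra.FinitePresentation A R] [Algebra.QuasiFinite A R] [IsDomain L]
    [IsLocalRing L] (hL : HasRoots L) (Q₀ Q₁ : PrimeSpectrum (L ⊗[A] R))
    (hle : Q₀.asIdeal ≤ Q₁.asIdeal) (h₀ : Q₀.asIdeal.comap (algebraMap L (L ⊗[A] R)) = ⊥)
    (h₁ : IsLocalRing.maximalIdeal L ≤ Q₁.asIdeal.comap (algebraMap L (L ⊗[A] R))) :
    Nonempty (R →ₐ[A] L) := by
  obtain ⟨ψ⟩ := exists_algHom_qf hL (L ⊗[A] R) Q₀ Q₁ hle h₀ h₁
  exact ⟨(ψ.restrictScalars A).comp Algebra.TensorProduct.includeRight⟩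

theorem exists_away_qf {A : Type u} [CommRing A] {ι : Type u} {K : ι → Type u} [∀ i, Field (K i)]
    [∀ i, IsAlgClosed (K i)] [Algebra A (Π i, K i)] {R : Type u} [CommRing R] [Algebra A R]
    [Algebra.FinitePresentation A R] [Algebra.QuasiFinite A R]
    (t : PrimeSpectrum (integralClosure A (Π i, K i)))
    (Q₀ Q₁ : PrimeSpectrum (Localization.AtPrime t.asIdeal ⊗[A] R))
    (hle : Q₀.asIdeal ≤ Q₁.asIdeal) (h₀ : Q₀.asIdeal.comap (algebraMap _ _) =
      (⊥ : Ideal (Localization.AtPrime t.asIdeal)))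
    (h₁ : IsLocalRing.maximalIdeal (Localization.AtPrime t.asIdeal) ≤
      Q₁.asIdeal.comap (algebraMap _ _)) :
    ∃ a, a ∉ t.asIdeal ∧ Nonempty (R →ₐ[A] Localization.Away a) := by
  haveI := isDomain_localization t.asIdeal
  have hL : HasRoots (Localization.AtPrime t.asIdeal) :=
    hasRoots_localization (B := integralClosure A (Π i, K i)) hasRoots_closure t.asIdeal.primeCompl
  obtain ⟨ψ⟩ := exists_algHom_baseChange_qf hL Q₀ Q₁ hle h₀ h₁
  exact exists_away_of_algHom t ψ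

theorem exists_section_of_away {S X : Scheme.{u}} (f : X ⟶ S) (U : S.affineOpens)
    (t' : PrimeSpectrum (integralClosure Γ(S, U.1) (KU S U.1))) {U' : X.Opens}
    (hU' : IsAffineOpen U') (e : U' ≤ f ⁻¹ᵁ U.1) (a : integralClosure Γ(S, U.1) (KU S U.1))
    (ha : a ∉ t'.asIdeal) (φ : Γ(X, U') →+* Localization.Away a)
    (hφ : φ.comp (f.appLE U.1 U' e).hom = algebraMap Γ(S, U.1) (Localization.Away a)) :
    ∃ (V : (T S).Opens) (r : ↑V ⟶ X), chart U t' ∈ V ∧ r ≫ f = V.ι ≫ π S := by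
  let ℓ := algebraMap (integralClosure Γ(S, U.1) (KU S U.1)) (Localization.Away a)
  haveI : IsOpenImmersion (Spec.map (CommRingCat.ofHom ℓ)) := IsOpenImmersion.of_isLocalization a
  let j := Spec.map (CommRingCat.ofHom ℓ) ≫ chart U
  refine ⟨j.opensRange, j.isoOpensRange.inv ≫ Spec.map (CommRingCat.ofHom φ) ≫
    hU'.fromSpec, ?_, ?_⟩
  · rw [Scheme.Hom.opensRange_comp]
    refine ⟨t', ?_, rfl⟩
    show t' ∈ Set.range (PrimeSpectrum.comap ℓ)
    rw [PrimeSpectrum.localization_away_comap_range (Localization.Away a) a]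
    exact ha
  · rw [← cancel_epi j.isoOpensRange.hom, ← Category.assoc j.isoOpensRange.hom _ (π S),
      Scheme.Hom.isoOpensRange_hom_ι, Category.assoc, Category.assoc, Category.assoc,
      Iso.hom_inv_id_assoc, ← IsAffineOpen.SpecMap_appLE_fromSpec f U.2 hU' e, chart_π,
      ← Spec.map_comp_assoc, ← Spec.map_comp_assoc]
    congr 2
    ext b
    exact (RingHom.congr_fun hφ b).trans (IsScalarTower.algebraMap_apply Γ(S, U.1)
      (integralClosure Γ(S, U.1) (KU S U.1)) (Localization.Away a) b)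

/-- Sections of quasi-finite S-subtrusive morphisms exist Zariski locally on `T S`. -/
theorem exists_section_subtr {S X : Scheme.{u}} (f : X ⟶ S) [LocallyOfFinitePresentation f]
    [LocallyQuasiFinite f] (hf : Subtr.UnivSSubtrusive f) (t : T S) :
    ∃ (V : (T S).Opens) (r : ↑V ⟶ X), t ∈ V ∧ r ≫ f = V.ι ≫ π S := by
  obtain ⟨U, t', rfl⟩ := exists_chart t
  haveI := isDomain_localization t'.asIdeal
  obtain ⟨U', hU', e, h⟩ := exists_prime_pair f hf U.2 (Localization.AtPrime t'.asIdeal)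
  letI : Algebra Γ(S, U.1) Γ(X, U') := (f.appLE U.1 U' e).hom.toAlgebra
  haveI : Algebra.FinitePresentation Γ(S, U.1) Γ(X, U') :=
    HasRingHomProperty.appLE @LocallyOfFinitePresentation f inferInstance U ⟨U', hU'⟩ e
  haveI : Algebra.QuasiFinite Γ(S, U.1) Γ(X, U') :=
    HasRingHomProperty.appLE @LocallyQuasiFinite f inferInstance U ⟨U', hU'⟩ e
  obtain ⟨Q₀, Q₁, hle, h₀, h₁⟩ := h
  obtain ⟨a, ha, ⟨φ⟩⟩ := exists_away_qf t' Q₀ Q₁ hle h₀ h₁
  exact exists_section_of_away f U t' hU' e a ha φ.toRingHom φ.comp_algebraMap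

end Groth.L20.IntCover
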