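import Groth.Agent.L20.IntCover.Ring
import Mathlib.AlgebraicGeometry.Sites.SmallAffineZariski
import Mathlib.AlgebraicGeometry.Morphisms.Integral
import Mathlib.AlgebraicGeometry.Morphisms.Flat
import Mathlib.AlgebraicGeometry.Morphisms.FinitePresentation
import Mathlib.RingTheory.Localization.Integral
import Mathlib.Algebra.Group.Pi.Units
import Mathlib.FieldTheory.IsAlgClosed.AlgebraicClosure

/-!
# An integral cover with sections of all fppf covers

For an affine open `U` of `S` let `B U` be the integral closure of `Γ(S, U)` in the product of the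
algebraic closures of the residue fields at the points of `U`. These glue to an integral surjective
`T ⟶ S`, and every fppf cover of `S` has a section Zariski locally on `T`.
-/

set_option linter.style.haveILetI false
set_option backward.isDefEq.respectTransparency.types false

universe u

open AlgebraicGeometry CategoryTheory Limits Opposite Scheme.AffineZariskiSite

noncomputable section

namespace Groth.L20.IntCover

variable {S : Scheme.{u}}

variable (S) in
/-- Product of the algebraic closures of the residue fields at the points of `U`. -/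
abbrev KU (U : S.Opens) : Type u := Π x : U, AlgebraicClosure (S.residueField x.1)

/-- Evaluation at the geometric points of `U`. -/
def toK (U : S.Opens) : Γ(S, U) →+* KU S U :=
  Pi.ringHom fun x : U =>
    (algebraMap (S.residueField x.1) (AlgebraicClosure (S.residueField x.1))).comp
      (S.evaluation U x.1 x.2).hom

theorem toK_apply (U : S.Opens) (a : Γ(S, U)) (x : U) :
    toK U a x = algebraMap (S.residueField x.1) (AlgebraicClosure (S.residueField x.1))
      (S.evaluation U x.1 x.2 a) := rfl

/-- Restriction. -/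
def resK {U V : S.Opens} (h : V ≤ U) : KU S U →+* KU S V where
  toFun a x := a ⟨x.1, h x.2⟩
  map_one' := rfl
  map_mul' _ _ := rfl
  map_zero' := rfl
  map_add' _ _ := rfl

theorem evaluation_res {U V : S.Opens} (i : V ⟶ U) (x : S) (hx : x ∈ V) (a : Γ(S, U)) :
    S.evaluation V x hx (S.presheaf.map i.op a) = S.evaluation U x (i.le hx) a := by
  rw [← S.germ_residue x hx, ← S.germ_residue x (i.le hx), CommRingCat.comp_apply,
    CommRingCat.comp_apply, S.presheaf.germ_res_apply i x hx]

theorem toK_comp {U V : S.Opens} (i : V ⟶ U) :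
    (toK V).comp (S.presheaf.map i.op).hom = (resK i.le).comp (toK U) :=
  RingHom.ext fun a => funext fun x => by
    show toK V (S.presheaf.map i.op a) x = toK U a ⟨x.1, i.le x.2⟩
    rw [toK_apply, toK_apply, evaluation_res]

theorem toK_eq_zero {U : S.Opens} (a : Γ(S, U)) (x : U) :
    toK U a x = 0 ↔ x.1 ∉ S.basicOpen a := by
  rw [toK_apply, map_eq_zero_iff _ (RingHom.injective _),
    S.evaluation_eq_zero_iff_notMem_basicOpen]

instance algebraK (U : S.Opens) : Algebra Γ(S, U) (KU S U) := (toK U).toAlgebra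

variable (S) in
/-- The integral closure of the structure sheaf in the product of algebraic closures. -/
def diagram : S.Opensᵒᵖ ⥤ CommRingCat.{u} where
  obj U := .of (integralClosure Γ(S, U.unop) (KU S U.unop))
  map {U V} i := CommRingCat.ofHom ((resK i.unop.le).restrict _ _ fun a ha => by
    obtain ⟨p, hp, hpa⟩ := ha
    refine ⟨p.map (S.presheaf.map i).hom, hp.map _, ?_⟩
    rw [Polynomial.eval₂_map]
    change Polynomial.eval₂ ((toK V.unop).comp (S.presheaf.map i.unop.op).hom) _ p = 0
    rw [toK_comp i.unop, ← Polynomial.hom_eval₂]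
    exact (congrArg (resK i.unop.le) hpa).trans (map_zero _))
  map_id _ := rfl
  map_comp _ _ := rfl

variable (S) in
/-- The structure map. -/
def diagramMap : S.presheaf ⟶ diagram S where
  app U := CommRingCat.ofHom (algebraMap Γ(S, U.unop) (integralClosure Γ(S, U.unop) (KU S U.unop)))
  naturality {U V} i := by
    ext a
    exact Subtype.ext (DFunLike.congr_fun (toK_comp i.unop) a)

theorem isLocalization_KU {U : S.Opens} (r : Γ(S, U)) :
    letI := (resK (U := U) (S.basicOpen_le r)).toAlgebra
    IsLocalization.Away (toK U r) (KU S (S.basicOpen r)) := by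
  letI := (resK (U := U) (S.basicOpen_le r)).toAlgebra
  refine IsLocalization.Away.mk _ ?_ (fun z => ?_) fun {a b} hab => ?_
  · rw [Pi.isUnit_iff]
    intro x
    rw [isUnit_iff_ne_zero]
    exact fun h => (toK_eq_zero r ⟨x.1, S.basicOpen_le r x.2⟩).mp h x.2
  · classical
    refine ⟨0, fun x => if hx : x.1 ∈ S.basicOpen r then z ⟨x.1, hx⟩ else 0, funext fun x => ?_⟩
    show z x * (1 : KU S (S.basicOpen r)) x = dite _ _ _
    rw [Pi.one_apply, mul_one, dif_pos x.2]
  · refine ⟨1, funext fun x => ?_⟩
    by_cases hx : x.1 ∈ S.basicOpen r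
    · simp only [Pi.mul_apply, pow_one]
      exact congrArg _ (congrFun hab ⟨x.1, hx⟩)
    · simp only [Pi.mul_apply, pow_one, (toK_eq_zero r x).mpr hx, zero_mul]

theorem coequifibered_diagramMap :
    (Functor.whiskerLeft (toOpensFunctor S).op (diagramMap S)).Coequifibered := by
  refine coequifibered_iff_forall_isLocalizationAway.mpr fun U r => ?_
  let : Algebra (integralClosure Γ(S, U.1) (KU S U.1))
      (integralClosure Γ(S, S.basicOpen r) (KU S (S.basicOpen r))) :=
    ((diagram S).map (homOfLE (S.basicOpen_le r)).op).hom.toAlgebra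
  let : Algebra (KU S U.1) (KU S (S.basicOpen r)) := (resK (S.basicOpen_le r)).toAlgebra
  have : IsLocalization.Away r Γ(S, S.basicOpen r) := U.2.isLocalization_basicOpen _
  have : IsLocalization.Away (algebraMap Γ(S, U.1) (KU S U.1) r) (KU S (S.basicOpen r)) :=
    isLocalization_KU r
  let : Algebra Γ(S, U.1) (KU S (S.basicOpen r)) :=
    ((resK (U := U.1) (S.basicOpen_le r)).comp (toK U.1)).toAlgebra
  have : IsScalarTower Γ(S, U.1) (KU S U.1) (KU S (S.basicOpen r)) := .of_algebraMap_eq' rfl
  have : IsScalarTower Γ(S, U.1) Γ(S, S.basicOpen r) (KU S (S.basicOpen r)) :=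
    .of_algebraMap_eq' (toK_comp (homOfLE (S.basicOpen_le r))).symm
  have : IsScalarTower (integralClosure Γ(S, U.1) (KU S U.1))
      (integralClosure Γ(S, S.basicOpen r) (KU S (S.basicOpen r))) (KU S (S.basicOpen r)) :=
    .of_algebraMap_eq' rfl
  have : IsScalarTower Γ(S, U.1) (integralClosure Γ(S, U.1) (KU S U.1))
      (integralClosure Γ(S, S.basicOpen r) (KU S (S.basicOpen r))) := .of_algebraMap_eq' rfl
  change IsLocalization.Away (algebraMap Γ(S, U.1) (integralClosure Γ(S, U.1) (KU S U.1)) r)
    (integralClosure Γ(S, S.basicOpen r) (KU S (S.basicOpen r)))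
  exact IsLocalization.Away.integralClosure r

variable (S) in
/-- The gluing datum. -/
def glueData := relativeGluingData (coequifibered_diagramMap (S := S))

instance : ((glueData S).functor ⋙ Scheme.forget).IsLocallyDirected :=
  Scheme.Cover.RelativeGluingData.instIsLocallyDirectedI₀CompFunctorForgetOfIsThin ..

variable (S) in
/-- The cover. -/
def T : Scheme.{u} := (glueData S).glued

variable (S) in
/-- Its map to the base. -/
def π : T S ⟶ S := (glueData S).toBase

/-- The charts of `T`. -/
def chart (U : S.affineOpens) : Spec (.of (integralClosure Γ(S, U.1) (KU S U.1))) ⟶ T S :=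
  colimit.ι (glueData S).functor U

instance (U : S.affineOpens) : IsOpenImmersion (chart U) :=
  (glueData S).cover.map_prop U

theorem chart_π (U : S.affineOpens) :
    chart U ≫ π S = Spec.map (CommRingCat.ofHom
      (algebraMap Γ(S, U.1) (integralClosure Γ(S, U.1) (KU S U.1)))) ≫ U.2.fromSpec :=
  colimit.ι_desc _ _

theorem exists_chart (t : T S) : ∃ (U : S.affineOpens) (t' : _), chart U t' = t := by
  obtain ⟨U, t', h⟩ := Scheme.IsLocallyDirected.ι_jointly_surjective (glueData S).functor t
  exact ⟨U, t', h⟩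

theorem preimage_π (U : S.affineOpens) : π S ⁻¹ᵁ U.1 = (chart U).opensRange := by
  have := (glueData S).toBase_preimage_eq_opensRange_ι U
  rw [show (Scheme.Opens.ι U.1).opensRange = U.1 from Scheme.Opens.opensRange_ι _] at this
  exact this

instance : IsIntegralHom (π S) := by
  rw [IsZariskiLocalAtTarget.iff_of_iSup_eq_top (P := @IsIntegralHom) _
    (iSup_affineOpens_eq_top _)]
  intro U
  let e := IsOpenImmersion.isoOfRangeEq (π S ⁻¹ᵁ U.1).ι (chart U)
    (by simpa using congr($(preimage_π U).1))
  rw [← MorphismProperty.cancel_left_of_respectsIso @IsIntegralHom e.inv,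
    ← MorphismProperty.cancel_right_of_respectsIso @IsIntegralHom _ U.2.isoSpec.hom]
  have : (algebraMap Γ(S, U.1) (integralClosure Γ(S, U.1) (KU S U.1))).IsIntegral :=
    algebraMap_isIntegral_iff.mpr inferInstance
  convert! (IsIntegralHom.SpecMap_iff (φ := CommRingCat.ofHom _)).mpr this
  rw [← cancel_mono U.2.fromSpec]
  simp [IsAffineOpen.isoSpec_hom, e, chart_π]

instance : Surjective (π S) := ⟨fun x => by
  obtain ⟨_, ⟨U, hU, rfl⟩, hxU, -⟩ :=
    S.isBasis_affineOpens.exists_subset_of_mem_open (Set.mem_univ x) isOpen_univ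
  let U' : S.affineOpens := ⟨U, hU⟩
  let ev : integralClosure Γ(S, U) (KU S U) →+* AlgebraicClosure (S.residueField x) :=
    (Pi.evalRingHom (fun y : U => AlgebraicClosure (S.residueField y.1)) ⟨x, hxU⟩).comp
      (Subalgebra.val _).toRingHom
  let p : Spec (.of (AlgebraicClosure (S.residueField x))) :=
    IsLocalRing.closedPoint (AlgebraicClosure (S.residueField x))
  refine ⟨chart U' (Spec.map (CommRingCat.ofHom ev) p), ?_⟩
  have h : Spec.map (CommRingCat.ofHom ev) ≫ chart U' ≫ π S =
      Spec.map (CommRingCat.ofHom (algebraMap (S.residueField x) _)) ≫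
        S.fromSpecResidueField x := by
    rw [chart_π, Scheme.fromSpecResidueField, ← hU.fromSpecStalk_eq_fromSpecStalk hxU,
      IsAffineOpen.fromSpecStalk, ← Spec.map_comp_assoc, ← Spec.map_comp_assoc,
      ← Spec.map_comp_assoc]
    congr 2
  rw [← Scheme.Hom.comp_apply, ← Scheme.Hom.comp_apply, h, Scheme.Hom.comp_apply]
  exact S.fromSpecResidueField_apply _ _⟩

theorem exists_section {S' : Scheme.{u}} (g : S' ⟶ S) [Flat g] [LocallyOfFinitePresentation g]
    [Surjective g] (t : T S) :
    ∃ (V : (T S).Opens) (r : ↑V ⟶ S'), t ∈ V ∧ r ≫ g = V.ι ≫ π S := by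
  obtain ⟨U, t', rfl⟩ := exists_chart t
  let α : Γ(S, U.1) →+* integralClosure Γ(S, U.1) (KU S U.1) := algebraMap _ _
  let p := PrimeSpectrum.comap α t'
  obtain ⟨s', hs'⟩ := g.surjective (U.2.fromSpec p)
  have hsU : s' ∈ g ⁻¹ᵁ U.1 := by
    show g s' ∈ U.1
    rw [hs']
    exact (Set.ext_iff.mp U.2.range_fromSpec _).mp (Set.mem_range_self p)
  obtain ⟨_, ⟨U', hU', rfl⟩, hsU', hle⟩ :=
    S'.isBasis_affineOpens.exists_subset_of_mem_open hsU (g ⁻¹ᵁ U.1).2
  have e : U' ≤ g ⁻¹ᵁ U.1 := hle
  letI : Algebra Γ(S, U.1) Γ(S', U') := (g.appLE U.1 U' e).hom.toAlgebra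
  haveI : Module.Flat Γ(S, U.1) Γ(S', U') :=
    HasRingHomProperty.appLE @Flat g inferInstance U ⟨U', hU'⟩ e
  haveI : Algebra.FinitePresentation Γ(S, U.1) Γ(S', U') :=
    HasRingHomProperty.appLE @LocallyOfFinitePresentation g inferInstance U ⟨U', hU'⟩ e
  let P : PrimeSpectrum Γ(S', U') := hU'.primeIdealOf ⟨s', hsU'⟩
  have hP : PrimeSpectrum.comap (algebraMap Γ(S, U.1) Γ(S', U')) P = p := by
    apply U.2.fromSpec.isOpenEmbedding.injective
    show (Spec.map (g.appLE U.1 U' e) ≫ U.2.fromSpec) P = U.2.fromSpec p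
    rw [IsAffineOpen.SpecMap_appLE_fromSpec g U.2 hU' e, Scheme.Hom.comp_apply,
      hU'.fromSpec_primeIdealOf, hs']
  obtain ⟨f, hf, ⟨φ⟩⟩ := exists_away (R := Γ(S', U')) t' P hP
  let ℓ := algebraMap (integralClosure Γ(S, U.1) (KU S U.1)) (Localization.Away f)
  haveI : IsOpenImmersion (Spec.map (CommRingCat.ofHom ℓ)) :=
    IsOpenImmersion.of_isLocalization f
  let j := Spec.map (CommRingCat.ofHom ℓ) ≫ chart U
  refine ⟨j.opensRange, j.isoOpensRange.inv ≫ Spec.map (CommRingCat.ofHom φ.toRingHom) ≫
    hU'.fromSpec, ?_, ?_⟩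
  · rw [Scheme.Hom.opensRange_comp]
    refine ⟨t', ?_, rfl⟩
    show t' ∈ Set.range (PrimeSpectrum.comap ℓ)
    rw [PrimeSpectrum.localization_away_comap_range (Localization.Away f) f]
    exact hf
  · rw [← cancel_epi j.isoOpensRange.hom, ← Category.assoc j.isoOpensRange.hom _ (π S),
      Scheme.Hom.isoOpensRange_hom_ι, Category.assoc, Category.assoc, Category.assoc,
      Iso.hom_inv_id_assoc, ← IsAffineOpen.SpecMap_appLE_fromSpec g U.2 hU' e, chart_π,
      ← Spec.map_comp_assoc, ← Spec.map_comp_assoc]
    congr 2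
    ext a
    exact (φ.commutes a).trans (IsScalarTower.algebraMap_apply Γ(S, U.1)
      (integralClosure Γ(S, U.1) (KU S U.1)) (Localization.Away f) a)

end Groth.L20.IntCover
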